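import Groth.Prelude.Def_Canon
import Groth.Prelude.Def_RedSub
import Groth.Agent.Omega.LocalStructure
import Groth.Agent.Omega.DiagUniv
import Groth.Agent.ExtPowSt.Stalk
import Groth.Agent.ExtPowSt.Det
import Groth.Agent.EulerChar.Rank
import Groth.Agent.LFDesc.Invertible
import Groth.Agent.ProjProper.Basic
import Groth.Agent.CAlg76.SmoothRelDim

/-!
Locally projective morphisms are proper; top differentials of smooth morphisms are invertible.
-/

set_option autoImplicit false

universe u

open CategoryTheory CategoryTheory.Limits AlgebraicGeometry TopologicalSpace Opposite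

namespace Groth.Agent.CanonTriv

variable {X S : Scheme.{u}} (f : X ⟶ S)

theorem isProper_of_locallyProjective (h : RedSub.IsLocallyProjective (Over.mk f)) : IsProper f := by
  choose V hsV n e he hef using h
  refine IsZariskiLocalAtTarget.of_iSup_eq_top (P := @IsProper) V
    (eq_top_iff.mpr fun s _ => Opens.mem_iSup.mpr ⟨s, hsV s⟩) fun s => ?_
  have : IsProper (CohB1.ProjSpaceOver.toBase (n s) (V s : Scheme.{u})) :=
    ProjProper.Basic.isProper_toBase _ _
  have hp : IsProper (pullback.snd f (V s).ι) := by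
    have := he s
    change IsProper ((Red.bc (V s).ι (Over.mk f)).hom)
    rw [← hef s]
    infer_instance
  exact (MorphismProperty.arrow_mk_iso_iff @IsProper
    (Arrow.isoMk (isPullback_morphismRestrict f (V s)).flip.isoPullback (Iso.refl _)
      (((isPullback_morphismRestrict f (V s)).flip.isoPullback_hom_snd).trans
        (Category.comp_id _).symm))).mpr hp

theorem isFinLocFreeOfRank_omega (n : ℕ) [SmoothOfRelativeDimension n f] [QuasiSeparated f] :
    FlatMod.IsFinLocFreeOfRank n (Omega.sheaf f) := by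
  intro x
  obtain ⟨U, hU, V, hV, hxV, e, hs⟩ :=
    SmoothOfRelativeDimension.exists_isStandardSmoothOfRelativeDimension (f := f) (n := n) x
  let := (f.appLE U V e).hom.toAlgebra
  haveI : Algebra.IsStandardSmoothOfRelativeDimension n Γ(S, U) Γ(X, V) := hs
  haveI : Algebra.IsStandardSmooth Γ(S, U) Γ(X, V) :=
    Algebra.IsStandardSmoothOfRelativeDimension.isStandardSmooth n
  haveI : Nontrivial Γ(X, V) := (X.presheaf.germ V x hxV).hom.domain_nontrivial
  have hrank : Module.finrank Γ(X, V) (KaehlerDifferential Γ(S, U) Γ(X, V)) = n :=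
    Module.finrank_eq_of_rank_eq (Algebra.IsStandardSmoothOfRelativeDimension.rank_kaehlerDifferential n)
  obtain ⟨i⟩ := Omega.LocalStructure.exists_tilde_iso (Omega.DiagUniv.isUniversal_dOmega f) hU hV e
  obtain ⟨j⟩ := Omega.Charts.exists_free_restrict (Omega.sheaf f) hV
    (Omega.SpecDer.omegaMod Γ(S, U) Γ(X, V)) i
  exact ⟨V, hxV, ⟨j ≪≫ eqToIso (congrArg (FlatMod.freeMod (↑V)) hrank)⟩⟩

theorem isInvertible_topDiff (n : ℕ) [SmoothOfRelativeDimension n f] [QuasiSeparated f]
    [IsLocallyNoetherian X] {ω : X.Modules} (hω : Canon.IsTopDiff f n ω) : PicF.IsInvertible ω := by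
  obtain ⟨φ, hφ⟩ := hω
  have hE := isFinLocFreeOfRank_omega f n
  have hEc := VBLib.isCoh_of_ofRank hE
  haveI := hEc.1
  let Φ : ExtPowSt.Sys n (Omega.sheaf f) ω := ⟨φ, hφ⟩
  let bE : ∀ x : X, Module.Basis (Fin n) (X.presheaf.stalk x) ((Omega.sheaf f).presheaf.stalk x) :=
    fun x => Module.Basis.ofEquivFun (EulerChar.stalk_ofRank hE x).some.symm
  have hLc := ExtPowSt.isCoh Φ hEc
  haveI := hLc.1
  exact LFDesc.isInvertible_of_stalks ω (fun U hU => (QCoh.isFiniteType_iff ω).mp hLc.2 U hU) fun x =>
    ⟨Module.Basis.ofEquivFun (((LinearEquiv.funUnique (Fin 1) (X.presheaf.stalk x) (X.presheaf.stalk x)).trans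
      (LinearEquiv.ofBijective _ (ExtPowSt.bijective_smul_ιMulti (bE x)))).trans
        (ExtPowSt.stalkEquiv Φ x).symm).symm⟩

end Groth.Agent.CanonTriv
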